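import Groth.Agent.SplitTor.Twist
import Groth.Agent.IsoTorusPts.Main
import Mathlib.FieldTheory.Galois.Basic

/-!
# Galois invariant cocharacters are defined over the base field
-/

set_option autoImplicit false
set_option linter.style.haveILetI false
set_option linter.unusedSectionVars false
set_option backward.isDefEq.respectTransparency false
set_option backward.isDefEq.respectTransparency.types false
set_option maxHeartbeats 1000000
set_option synthInstance.maxHeartbeats 400000

universe u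

open CategoryTheory Limits MonoidalCategory CartesianMonoidalCategory MonObj AlgebraicGeometry LieS
open scoped CategoryTheory.Obj TensorProduct

noncomputable section

namespace Groth.Agent.SplitTor

open Groth.Agent.HomDiag Groth.Agent.DynPar Groth.Agent.MTBridge Groth.Agent.IsoTorusPts

variable {k K : Type u} [Field k] [Field K] [Algebra k K] [FiniteDimensional k K] [IsGalois k K]

/-- An element of the Laurent ring fixed by the Galois group is defined over the field. -/
theorem mem_range_map (x : AddMonoidAlgebra K ℤ)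
    (hx : ∀ σ : K ≃ₐ[k] K, AddMonoidAlgebra.mapAlgHom ℤ σ.toAlgHom x = x) :
    x ∈ (AddMonoidAlgebra.mapAlgHom ℤ (Algebra.ofId k K)).range := by
  classical
  have hc : ∀ m, ∃ a : k, algebraMap k K a = x.coeff m := fun m =>
    (IsGalois.mem_range_algebraMap_iff_fixed (x.coeff m)).2 fun σ => by
      have h := congr(($(hx σ)).coeff m)
      rw [AddMonoidAlgebra.coeff_mapAlgHom] at h
      exact h
  choose c hc using hc
  refine ⟨∑ m ∈ x.coeff.support, AddMonoidAlgebra.single m (c m), ?_⟩
  show AddMonoidAlgebra.mapAlgHom ℤ (Algebra.ofId k K) _ = x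
  ext n
  simp only [map_sum, AddMonoidAlgebra.mapAlgHom_single, AddMonoidAlgebra.coeff_sum, Finset.sum_apply',
    AddMonoidAlgebra.coeff_single, Finsupp.single_apply, Algebra.ofId_apply, hc]
  rw [Finset.sum_ite_eq']
  split_ifs with h
  · rfl
  · exact (Finsupp.notMem_support_iff.1 h).symm

variable (T : Over (Spec (CommRingCat.of k))) [GrpObj T] [IsAffine T.left] (r : ℕ)
  (φ : Grp.mk (Red.bc (wb k K) T) ≅ Grp.mk (Red.DS (Spec (CommRingCat.of K)) (Fin r → ℤ)))

omit [FiniteDimensional k K] [IsGalois k K] in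
/-- Points of a torus agreeing after base change agree. -/
theorem eq_of_Ch {R : Type u} [CommRing R] [Algebra k R] {p q : Sp k R ⟶ T}
    (h : ∀ m, Ch r φ (Algebra.TensorProduct.includeRight : K →ₐ[k] R ⊗[k] K)
        (SpMap (Algebra.TensorProduct.includeLeft : R →ₐ[k] R ⊗[k] K) ≫ p) m =
      Ch r φ (Algebra.TensorProduct.includeRight : K →ₐ[k] R ⊗[k] K)
        (SpMap (Algebra.TensorProduct.includeLeft : R →ₐ[k] R ⊗[k] K) ≫ q) m) : p = q := by
  let ι' : R →ₐ[k] R ⊗[k] K := Algebra.TensorProduct.includeLeft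
  have hι : Function.Injective ι' :=
    Algebra.TensorProduct.includeLeft_injective (S := k) (algebraMap k K).injective
  have h1 := congrArg ev (Ch_ext r φ _ h)
  rw [ev_comp, ev_comp] at h1
  have h2 : ev p = ev q := RingHom.ext fun x => hι (RingHom.congr_fun h1 x)
  refine Over.OverMorphism.ext ?_
  rw [← cancel_mono T.left.isoSpec.hom, ← spec_ev, ← spec_ev, h2]

/-- A Galois invariant cocharacter is defined over the field. -/
theorem exists_cochar (θ : (K ≃ₐ[k] K) → Multiplicative (Fin r → ℤ) → Multiplicative (Fin r → ℤ))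
    (hθm : ∀ g h m, θ g (θ h m) = θ (g * h) m) (hθ1 : ∀ m, θ 1 m = m)
    (hθ : ∀ (R : Type u) [CommRing R] [Algebra k R] (g : K ≃ₐ[k] K) (ψ : K →ₐ[k] R) (p : Sp k R ⟶ T)
        (m : Multiplicative (Fin r → ℤ)), Ch r φ (ψ.comp g.toAlgHom) p m = Ch r φ ψ p (θ g m))
    (v : (Fin r → ℤ) →+ ℤ) (hv : ∀ g m, v (θ g m).toAdd = v m.toAdd) :
    ∃ jc : Red.DS (Spec (CommRingCat.of k)) ℤ ⟶ T, IsMonHom jc ∧
      ∀ (R : Type u) [CommRing R] [Algebra k R] (ψ : K →ₐ[k] R) (y : Sp k R ⟶ Red.DS (Spec (CommRingCat.of k)) ℤ)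
        (m : Multiplicative (Fin r → ℤ)),
        Ch r φ ψ (y ≫ jc) m = chv y (Multiplicative.ofAdd (v m.toAdd)) := by
  classical
  let U := AddMonoidAlgebra k ℤ
  let U' := AddMonoidAlgebra K ℤ
  let g : U →ₐ[k] U' := AddMonoidAlgebra.mapAlgHom ℤ (Algebra.ofId k K)
  have hg : Function.Injective g := fun a b hab => by
    ext n
    have h := congr(($hab).coeff n)
    rw [AddMonoidAlgebra.coeff_mapAlgHom, AddMonoidAlgebra.coeff_mapAlgHom] at h
    exact (algebraMap k K).injective h
  let ψ0 : K →ₐ[k] U' := IsScalarTower.toAlgHom k K U'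
  let χ : Multiplicative (Fin r → ℤ) →* U' :=
    (AddMonoidAlgebra.of K ℤ).comp (AddMonoidHom.toMultiplicative v)
  obtain ⟨p1, hp1⟩ := exists_Ch r φ ψ0 χ
  have hχ : ∀ m, χ m = AddMonoidAlgebra.single (v m.toAdd) 1 := fun m => rfl
  have hinv : ∀ σ : K ≃ₐ[k] K, SpMap (AddMonoidAlgebra.mapAlgHom ℤ σ.toAlgHom) ≫ p1 = p1 := fun σ => by
    have hc : (AddMonoidAlgebra.mapAlgHom ℤ σ.toAlgHom).comp ψ0 = ψ0.comp σ.toAlgHom := AlgHom.ext fun a => by
      show AddMonoidAlgebra.mapAlgHom ℤ σ.toAlgHom (AddMonoidAlgebra.single 0 a) = AddMonoidAlgebra.single 0 (σ a)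
      rw [AddMonoidAlgebra.mapAlgHom_single]
      rfl
    refine Ch_ext r φ ψ0 fun m => ?_
    obtain ⟨m, rfl⟩ : ∃ m', θ σ m' = m := ⟨θ σ⁻¹ m, by rw [hθm, mul_inv_cancel, hθ1]⟩
    have h := Ch_comp r φ (AddMonoidAlgebra.mapAlgHom ℤ σ.toAlgHom) ψ0 p1 m
    rw [hc, hθ, hp1] at h
    rw [h, hp1, hχ, hχ, AddMonoidAlgebra.mapAlgHom_single, map_one, hv]
  obtain ⟨p0, hp0⟩ := exists_factor g hg p1 fun t => mem_range_map _ fun σ => by
    have h := congrArg (fun z => ev z t) (hinv σ)
    simp only [ev_comp] at h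
    exact h
  let L : ∀ (B : Type u) [CommRing B] (f : Spec (CommRingCat.of B) ⟶ Spec (CommRingCat.of k)),
      (LieS.pt B f ⟶ Red.DS (Spec (CommRingCat.of k)) ℤ) → (U →+* B) := fun B _ f y =>
    AddMonoidAlgebra.liftNCRingHom (Spec.preimage f).hom (chv y) fun _ _ => Commute.all _ _
  have hL : ∀ (B : Type u) [CommRing B] (f : Spec (CommRingCat.of B) ⟶ Spec (CommRingCat.of k))
      (y : LieS.pt B f ⟶ Red.DS (Spec (CommRingCat.of k)) ℤ) (n : ℤ) (a : k),
      L B f y (AddMonoidAlgebra.single n a) = (Spec.preimage f).hom a * chv y (Multiplicative.ofAdd n) :=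
    fun B _ f y n a => AddMonoidAlgebra.liftNC_single _ _ _ _
  have hLf : ∀ (B : Type u) [CommRing B] (f : Spec (CommRingCat.of B) ⟶ Spec (CommRingCat.of k))
      (y : LieS.pt B f ⟶ Red.DS (Spec (CommRingCat.of k)) ℤ),
      Spec.map (CommRingCat.ofHom (L B f y)) ≫ Spec.map (CommRingCat.ofHom (algebraMap k U)) = f := by
    intro B _ f y
    rw [← Spec.map_comp]
    refine Eq.trans ?_ (Spec.map_preimage f)
    congr 1
    refine CommRingCat.hom_ext (RingHom.ext fun a => ?_)
    show L B f y (AddMonoidAlgebra.single 0 a) = _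
    rw [hL, ofAdd_zero, map_one, _root_.mul_one]
  obtain ⟨jc, hjc⟩ := exists_hom_of_pts (X := Red.DS (Spec (CommRingCat.of k)) ℤ) (Y := T)
    (fun B _ f y => qm (L B f y) (hLf B f y) ≫ p0) (fun B B' _ _ f f' h hf y => by
      rw [← Category.assoc]
      refine congrArg (· ≫ p0) (Over.OverMorphism.ext ?_)
      show Spec.map _ = Spec.map _ ≫ Spec.map _
      rw [← Spec.map_comp, ← CommRingCat.ofHom_comp]
      congr 2
      refine AddMonoidAlgebra.ringHom_ext (fun a => ?_) (fun n => ?_)
      · show L B' f' _ (AddMonoidAlgebra.single 0 a) = h (L B f y (AddMonoidAlgebra.single 0 a))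
        rw [hL, hL, ofAdd_zero, map_one, map_one, _root_.mul_one, _root_.mul_one]
        have e : Spec.preimage f' = Spec.preimage f ≫ CommRingCat.ofHom h :=
          Spec.map_injective (by rw [Spec.map_comp, Spec.map_preimage, Spec.map_preimage, hf])
        rw [e]
        rfl
      · show L B' f' _ (AddMonoidAlgebra.single n 1) = h (L B f y (AddMonoidAlgebra.single n 1))
        rw [hL, hL, map_one, map_one, _root_.one_mul, _root_.one_mul, chv_qm])
  have hval : ∀ (R : Type u) [CommRing R] [Algebra k R] (ψ : K →ₐ[k] R)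
      (y : Sp k R ⟶ Red.DS (Spec (CommRingCat.of k)) ℤ) (m : Multiplicative (Fin r → ℤ)),
      Ch r φ ψ (y ≫ jc) m = chv y (Multiplicative.ofAdd (v m.toAdd)) := by
    intro R _ _ ψ y m
    let G0 : U' →+* R := AddMonoidAlgebra.liftNCRingHom ψ.toRingHom (chv y) fun _ _ => Commute.all _ _
    have hG0 : ∀ (n : ℤ) (a : K), G0 (AddMonoidAlgebra.single n a) = ψ a * chv y (Multiplicative.ofAdd n) :=
      fun n a => AddMonoidAlgebra.liftNC_single _ _ _ _
    let G : U' →ₐ[k] R :=
      { G0 with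
        commutes' := fun a => by
          show G0 (AddMonoidAlgebra.single 0 (algebraMap k K a)) = _
          rw [hG0, ψ.commutes, ofAdd_zero, map_one, _root_.mul_one] }
    have hψ : G.comp ψ0 = ψ := AlgHom.ext fun a => by
      show G0 (AddMonoidAlgebra.single 0 a) = ψ a
      rw [hG0, ofAdd_zero, map_one, _root_.mul_one]
    have hy : y ≫ jc = SpMap G ≫ p1 := by
      rw [hjc, ← hp0, ← Category.assoc, SpMap_comp]
      refine congrArg (· ≫ p0) (Over.OverMorphism.ext ?_)
      show Spec.map _ = Spec.map _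
      congr 2
      refine AddMonoidAlgebra.ringHom_ext (fun a => ?_) (fun n => ?_)
      · show L R _ y (AddMonoidAlgebra.single 0 a) = G0 (AddMonoidAlgebra.mapAlgHom ℤ (Algebra.ofId k K) _)
        rw [hL, AddMonoidAlgebra.mapAlgHom_single, hG0, ofAdd_zero, map_one, _root_.mul_one, _root_.mul_one,
          Spec.preimage_map]
        exact (ψ.commutes a).symm
      · show L R _ y (AddMonoidAlgebra.single n 1) = G0 (AddMonoidAlgebra.mapAlgHom ℤ (Algebra.ofId k K) _)
        rw [hL, AddMonoidAlgebra.mapAlgHom_single, hG0, map_one, map_one, map_one]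
    have h := Ch_comp r φ G ψ0 p1 m
    rw [hψ, ← hy, hp1, hχ] at h
    rw [h]
    show G0 _ = _
    rw [hG0, map_one, _root_.one_mul]
  refine ⟨jc, DynPar.isMonHom_of_mul jc fun X x y => hom_ext_pts _ _ fun B _ f z => ?_, hval⟩
  suffices key : ∀ [Algebra k B] (z : Sp k B ⟶ X),
      z ≫ ((x * y) ≫ jc) = z ≫ ((x ≫ jc) * (y ≫ jc)) by
    letI := (Spec.preimage f).hom.toAlgebra
    have e : Spec.map (CommRingCat.ofHom (algebraMap k B)) = f := Spec.map_preimage f
    revert z
    rw [← e]
    exact fun z => key z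
  intro _ z
  simp only [MonObj.comp_mul, ← Category.assoc]
  refine eq_of_Ch T r φ fun m => ?_
  simp only [MonObj.comp_mul, Ch_mul, ← Category.assoc, hval, chv_mul]

end Groth.Agent.SplitTor
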