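import Groth.Agent.TorusChar.Split
import Groth.Agent.Chev.TorusBasic
import Groth.Agent.MTBridge.Charts

/-!
# A torus over a field is split by a finite Galois extension
-/

set_option autoImplicit false
set_option linter.style.haveILetI false
set_option backward.isDefEq.respectTransparency false
set_option backward.isDefEq.respectTransparency.types false
set_option maxHeartbeats 1000000
set_option synthInstance.maxHeartbeats 400000

universe u

open CategoryTheory AlgebraicGeometry TensorProduct
open scoped CategoryTheory.Obj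

noncomputable section

namespace Groth.Agent.SplitTor

open Groth.Agent

/-- A finite Galois extension splitting a torus. -/
theorem exists_galois_grpIso {k : Type u} [Field k] (T : Over (Spec (CommRingCat.of k))) [GrpObj T]
    (hT : Red.IsTorus T) :
    ∃ (K : Type u) (_ : Field K) (_ : Algebra k K) (_ : FiniteDimensional k K) (_ : IsGalois k K) (r : ℕ),
      Nonempty (Grp.mk (Red.bc (Spec.map (CommRingCat.ofHom (algebraMap k K))) T) ≅
        Grp.mk (Red.DS (Spec (CommRingCat.of K)) (Fin r → ℤ))) := by
  obtain ⟨L, _, _, w, r, ⟨e⟩⟩ := Chev.exists_split_of_isTorus hT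
  letI : Algebra k L := (Spec.preimage w).hom.toAlgebra
  have hw : w = Spec.map (CommRingCat.ofHom (algebraMap k L)) := (Spec.map_preimage w).symm
  obtain ⟨A, _, _, ⟨i⟩, N, _, _, _, _, ⟨eN⟩⟩ := TorusChar.exists_galois_split (n := r) T
    ⟨L, inferInstance, inferInstance, ⟨MTBridge.bcCongr hw.symm T ≪≫ e⟩⟩
  obtain ⟨e0⟩ := MTBridge.nonempty_bc_specGrp k N A
  obtain ⟨e1⟩ := MTBridge.nonempty_specGrp_iso
    (eN.trans (MonoidAlgebra.domCongrBialgEquiv N N (MulEquiv.ulift (α := Multiplicative (Fin r → ℤ))))).symm
  obtain ⟨e2⟩ := MTBridge.nonempty_DS_iso N (Fin r → ℤ)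
  exact ⟨N, inferInstance, inferInstance, inferInstance, inferInstance, r,
    ⟨MTBridge.bcMapIso _ i ≪≫ e0 ≪≫ e1 ≪≫ e2.symm⟩⟩

end Groth.Agent.SplitTor
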