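import Groth.Agent.RootSys.Bridge
import Groth.Agent.RootSys.Coroot
import Groth.Agent.IsoTorusPts.Char

/-!
# Galois twisting of the weights of a torus
-/

set_option autoImplicit false
set_option linter.style.haveILetI false
set_option linter.unusedSectionVars false
set_option backward.isDefEq.respectTransparency false
set_option backward.isDefEq.respectTransparency.types false
set_option maxHeartbeats 1000000
set_option synthInstance.maxHeartbeats 400000

universe u

open CategoryTheory Limits MonoidalCategory CartesianMonoidalCategory MonObj AlgebraicGeometry LieS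
open scoped CategoryTheory.Obj

noncomputable section

namespace Groth.Agent.SplitTor

open Groth.Agent.HomDiag Groth.Agent.DynPar Groth.Agent.RootSys Groth.Agent.MTBridge Groth.Agent.IsoTorusPts
open Groth.Agent.DynPar.Der (dv)

section General

variable {R R' : Type u} [CommRing R] [CommRing R'] (j : Spec (CommRingCat.of R') ⟶ Spec (CommRingCat.of R))
  {G : Over (Spec (CommRingCat.of R))} [GrpObj G] {B B' : Type u} [CommRing B] [CommRing B']
  {fa : Spec (CommRingCat.of B) ⟶ Spec (CommRingCat.of R')} {fb : Spec (CommRingCat.of B) ⟶ Spec (CommRingCat.of R)}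
  {fa' : Spec (CommRingCat.of B') ⟶ Spec (CommRingCat.of R')}
  {fb' : Spec (CommRingCat.of B') ⟶ Spec (CommRingCat.of R)}

/-- Conjugation commutes with the change of base. -/
theorem lieDown_Ad (e : fa ≫ j = fb) (h : pt B fb ⟶ G) (v : Lie G B fb) :
    lieDown j e (Ad G B fb h v) = Ad (Red.bc j G) B fa (down j e h) (lieDown j e v) := by
  have hp : down j (fd_comp j e) (qm (algebraMap B (DualNumber B)) (rfl : _ = fd fb) ≫ h) =
      qm (algebraMap B (DualNumber B)) (rfl : _ = fd fa) ≫ down j e h :=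
    qm_down j e (fd_comp j e) (algebraMap B (DualNumber B)) (rfl : _ = fd fa) (rfl : _ = fd fb) h
  refine Subtype.ext ?_
  let x : pt (DualNumber B) (fd fb) ⟶ G := v.1
  show down j (fd_comp j e) ((qm (algebraMap B (DualNumber B)) (rfl : _ = fd fb) ≫ h) *
      x * (qm (algebraMap B (DualNumber B)) (rfl : _ = fd fb) ≫ h)⁻¹) =
    (qm (algebraMap B (DualNumber B)) (rfl : _ = fd fa) ≫ down j e h) *
      down j (fd_comp j e) x *
      (qm (algebraMap B (DualNumber B)) (rfl : _ = fd fa) ≫ down j e h)⁻¹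
  rw [down_mul, down_mul, show ∀ a, down j (fd_comp j e) a⁻¹ = (down j (fd_comp j e) (a : _ ⟶ G))⁻¹ from
    fun a => map_inv (upEquiv j (fd_comp j e) (G := G)) a, hp]

/-- Pulling back commutes with the change of base. -/
theorem lieDown_pl [IsAffine G.left] [IsAffine (Red.bc j G).left] (e : fa ≫ j = fb) (e' : fa' ≫ j = fb')
    (h : B →+* B') (ha : Spec.map (CommRingCat.ofHom h) ≫ fa = fa')
    (hb : Spec.map (CommRingCat.ofHom h) ≫ fb = fb') (v : Lie G B fb) :
    lieDown j e' (Der.pl h hb v) = Der.pl h ha (lieDown j e v) :=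
  Subtype.ext (qm_down j (fd_comp j e) (fd_comp j e') (bcHom h) (Over.w (Der.qdual h ha))
    (Over.w (Der.qdual h hb)) (v.1 : pt (DualNumber B) (fd fb) ⟶ G))

end General

variable {k K : Type u} [Field k] [Field K] [Algebra k K]

variable (k K) in
/-- The map of bases. -/
abbrev wb : Spec (CommRingCat.of K) ⟶ Spec (CommRingCat.of k) :=
  Spec.map (CommRingCat.ofHom (algebraMap k K))

/-- The structure map given by an algebra map. -/
abbrev fA {R : Type u} [CommRing R] [Algebra k R] (ψ : K →ₐ[k] R) :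
    Spec (CommRingCat.of R) ⟶ Spec (CommRingCat.of K) :=
  Spec.map (CommRingCat.ofHom ψ.toRingHom)

theorem fA_comp {R : Type u} [CommRing R] [Algebra k R] (ψ : K →ₐ[k] R) :
    fA ψ ≫ wb k K = Spec.map (CommRingCat.ofHom (algebraMap k R)) := by
  rw [← Spec.map_comp]
  congr 1
  exact CommRingCat.hom_ext (RingHom.ext fun a => ψ.commutes a)

variable {T H : Over (Spec (CommRingCat.of k))} [GrpObj T] [GrpObj H] (r : ℕ)
  (φ : Grp.mk (Red.bc (wb k K) T) ≅ Grp.mk (Red.DS (Spec (CommRingCat.of K)) (Fin r → ℤ))) (i : T ⟶ H) [IsMonHom i]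

/-- The split torus inside the base change. -/
def cT : Red.DS (Spec (CommRingCat.of K)) (Fin r → ℤ) ⟶ Red.bc (wb k K) H :=
  φ.inv.hom.hom ≫ (Over.pullback (wb k K)).map i

instance : IsMonHom (cT r φ i) :=
  haveI := φ.inv.hom.isMonHom_hom
  haveI := DynPar.isMonHom_map' (wb k K) i
  DynPar.isMonHom_comp' φ.inv.hom.hom ((Over.pullback (wb k K)).map i)

/-- The point of the diagonalisable group of a point of the torus. -/
def gq {R : Type u} [CommRing R] [Algebra k R] (ψ : K →ₐ[k] R) (q : Sp k R ⟶ T) :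
    LieS.pt R (fA ψ) ⟶ Red.DS (Spec (CommRingCat.of K)) (Fin r → ℤ) :=
  down (wb k K) (fA_comp ψ) q ≫ φ.hom.hom.hom

theorem chv_gq {R : Type u} [CommRing R] [Algebra k R] (ψ : K →ₐ[k] R) (q : Sp k R ⟶ T)
    (m : Multiplicative (Fin r → ℤ)) : chv (gq r φ ψ q) m = Ch r φ ψ q m := rfl

omit [IsMonHom i] in
theorem gq_cT {R : Type u} [CommRing R] [Algebra k R] (ψ : K →ₐ[k] R) (q : Sp k R ⟶ T) :
    gq r φ ψ q ≫ cT r φ i = down (wb k K) (fA_comp ψ) (q ≫ i) := by
  have h1 : φ.hom.hom.hom ≫ φ.inv.hom.hom = 𝟙 _ := congrArg (fun z => z.hom.hom) φ.hom_inv_id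
  rw [gq, cT, Category.assoc, reassoc_of% h1, DynPar.down_comp]

variable [IsAffine H.left] [IsAffine (Red.bc (wb k K) H).left]

/-- The eigenvector equation over the extension is the one over the field. -/
theorem ad_gq_iff {R : Type u} [CommRing R] [Algebra k R] (ψ : K →ₐ[k] R) (q : Sp k R ⟶ T)
    (u : Lie H R (Spec.map (CommRingCat.ofHom (algebraMap k R)))) (b : R) :
    Ad (Red.bc (wb k K) H) R (fA ψ) (gq r φ ψ q ≫ cT r φ i) (lieDown (wb k K) (fA_comp ψ) u) =
        b • lieDown (wb k K) (fA_comp ψ) u ↔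
      Ad H R (Spec.map (CommRingCat.ofHom (algebraMap k R))) (q ≫ i) u = b • u := by
  rw [gq_cT, ← lieDown_Ad, ← lieDown_smul]
  exact (lieDown_injective (wb k K) (fA_comp ψ)).eq_iff

/-- The set of weights is stable under the Galois action. -/
theorem weight_twist (θ : (K ≃ₐ[k] K) → Multiplicative (Fin r → ℤ) → Multiplicative (Fin r → ℤ))
    (hθ : ∀ (R : Type u) [CommRing R] [Algebra k R] (g : K ≃ₐ[k] K) (ψ : K →ₐ[k] R) (p : Sp k R ⟶ T)
        (m : Multiplicative (Fin r → ℤ)), Ch r φ (ψ.comp g.toAlgHom) p m = Ch r φ ψ p (θ g m))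
    (σ : K ≃ₐ[k] K) {d d' : Fin r → ℤ} (hd : θ σ (Multiplicative.ofAdd d') = Multiplicative.ofAdd d)
    {v : Lie (Red.bc (wb k K) H) K (fk K)} (hv : IsWt (cT r φ i) v d) (hv1 : v ≠ 1) :
    ∃ v' : Lie (Red.bc (wb k K) H) K (fk K), IsWt (cT r φ i) v' d' ∧ v' ≠ 1 := by
  have e0 : fk K ≫ wb k K = wb k K := by simp [fk]
  obtain ⟨u, rfl⟩ := lieDown_surjective (wb k K) e0 v
  have e2 : fA (σ.toAlgHom) ≫ wb k K = wb k K := fA_comp σ.toAlgHom
  let v2 := lieDown (wb k K) e2 u
  have hs : Spec.map (CommRingCat.ofHom σ.symm.toAlgHom.toRingHom) ≫ fA σ.toAlgHom = fk K := by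
    rw [fA, ← Spec.map_comp, ← CommRingCat.ofHom_comp,
      show σ.symm.toAlgHom.toRingHom.comp σ.toAlgHom.toRingHom = RingHom.id K from
        RingHom.ext fun x => σ.symm_apply_apply x, CommRingCat.ofHom_id]
    simp [fk]
  have hv2 : IsWt (cT r φ i) v2 d' := by
    let U := AddMonoidAlgebra K (Fin r → ℤ)
    let ψ : K →ₐ[k] U :=
      { cC K (Fin r → ℤ) with
        commutes' := fun a => (IsScalarTower.algebraMap_apply k K U a).symm }
    have key : ∀ (fa : Spec (CommRingCat.of U) ⟶ Spec (CommRingCat.of K)) (_ : fA (ψ.comp σ.toAlgHom) = fa)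
        (g : LieS.pt U fa ⟶ Red.DS (Spec (CommRingCat.of K)) (Fin r → ℤ))
        (ha : Spec.map (CommRingCat.ofHom (cC K (Fin r → ℤ))) ≫ fA σ.toAlgHom = fa),
        Ad (Red.bc (wb k K) H) U fa (g ≫ cT r φ i) (Der.pl (cC K (Fin r → ℤ)) ha v2) =
          chv g (Multiplicative.ofAdd d') • Der.pl (cC K (Fin r → ℤ)) ha v2 := by
      intro fa hfa g ha
      subst hfa
      have h1 : φ.inv.hom.hom ≫ φ.hom.hom.hom = 𝟙 _ := congrArg (fun z => z.hom.hom) φ.inv_hom_id
      let q : Sp k U ⟶ T := up (wb k K) (fA_comp (ψ.comp σ.toAlgHom)) (g ≫ φ.inv.hom.hom)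
      have hg : g = gq r φ (ψ.comp σ.toAlgHom) q := by
        rw [gq, down_up, Category.assoc, h1, Category.comp_id]
      have hb : Spec.map (CommRingCat.ofHom (cC K (Fin r → ℤ))) ≫ wb k K =
          Spec.map (CommRingCat.ofHom (algebraMap k U)) := fA_comp ψ
      have hc : Spec.map (CommRingCat.ofHom (cC K (Fin r → ℤ))) ≫ fk K = fA ψ := by
        rw [show fk K = 𝟙 _ by simp [fk], Category.comp_id]
      have h2 := hv.ad_pl (cC K (Fin r → ℤ)) hc (gq r φ ψ q)
      rw [← lieDown_pl (wb k K) e0 (fA_comp ψ) (cC K (Fin r → ℤ)) hc hb] at h2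
      rw [← lieDown_pl (wb k K) e2 (fA_comp (ψ.comp σ.toAlgHom)) (cC K (Fin r → ℤ)) ha hb, hg, ad_gq_iff,
        chv_gq, hθ, hd, ← chv_gq]
      exact (ad_gq_iff r φ i ψ q _ _).1 h2
    obtain ⟨g, hg⟩ := exists_taut (Γ := Fin r → ℤ) (fA σ.toAlgHom)
    refine isWt_of_ad _ hg (key _ ?_ g rfl)
    show _ = Spec.map _ ≫ Spec.map _
    rw [← Spec.map_comp]
    rfl
  refine ⟨Der.pl σ.symm.toAlgHom.toRingHom hs v2, hv2.pl _ hs, fun h => hv1 ?_⟩
  have h3 : u = 1 := Der.dv_injective (funext fun x => by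
    have h4 := congrArg (fun w => dv w (bcFun (wb k K) x)) h
    simp only [Der.dv_pl, Der.dv_one, v2, dv_lieDown] at h4
    rw [Der.dv_one]
    exact σ.symm.injective (h4.trans (map_zero σ.symm).symm))
  rw [h3, map_one]

end Groth.Agent.SplitTor
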